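import Mathlib
import Cfsg.Agent.Lib.Tuan.Mult

/-!
A simple group with a self-centralizing element of prime order `p` whose exceptional characters have degree
`e < p - 1`: then `e = (p - 1) / 2` and all non-exceptional characters have degree `1` or `p ± 1`.
-/

set_option autoImplicit false
set_option linter.unusedSectionVars false

namespace CfsgLib.Tuan

open Cfsg CfsgLib.Char CfsgLib.Block CfsgLib.DefectOne CfsgLib.DefectOne.B43 Subgroup
open scoped ComplexConjugate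

variable {G : Type*} [Group G] [Finite G] {p : ℕ} [hp : Fact p.Prime] {x : G} {ζ : ℂ}
  (hζ : IsPrimitiveRoot ζ p) (D : PrinData p x ζ)

include D in
theorem mn_one (hs : Syl p x) : mn hζ x (irrOne G) 0 = 1 ∧ ∀ k : (ZMod p)ˣ, mn hζ x (irrOne G) k = 0 := by
  have h : ∀ k : (ZMod p)ˣ, mn hζ x (irrOne G) k = 0 := fun k => by
    have h := (mn_X hζ D hs D.one_mem k).1
    rw [dg_one, D.δ_one, Nat.cast_one, sub_self] at h
    have h2 : p * mn hζ x (irrOne G) k = 0 := by exact_mod_cast h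
    exact (mul_eq_zero.1 h2).resolve_left hp.out.ne_zero
  refine ⟨?_, h⟩
  have h2 := (mn_X hζ D hs D.one_mem 1).2
  rw [h, D.δ_one] at h2
  exact_mod_cast h2

theorem irr_cases [IsSimpleGroup G] (hna : ∃ a b : G, a * b ≠ b * a) (h : SC p x)
    (χ : IrrCharacter G) : χ = irrOne G ∨
    (χ ∈ D.X ∧ χ ≠ irrOne G ∧ D.δ χ = 1 ∧ ∃ u, dg χ = (u + 1) * p + 1 ∧ mn hζ x χ 0 = u + 2 ∧
      ∀ k : (ZMod p)ˣ, mn hζ x χ k = u + 1) ∨
    (χ ∈ D.X ∧ χ ≠ irrOne G ∧ D.δ χ = -1 ∧ ∃ u, dg χ + 1 = (u + 1) * p ∧ mn hζ x χ 0 = u ∧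
      ∀ k : (ZMod p)ˣ, mn hζ x χ k = u + 1) ∨
    (∃ a, χ = D.Y a) ∨
    (χ ∉ D.X ∧ χ ∉ Ys D ∧ ∃ u, dg χ = (u + 1) * p ∧ ∀ k : ZMod p, mn hζ x χ k = u + 1) := by
  have hs := h.syl
  have hp0 := hp.out.pos
  by_cases h1 : χ = irrOne G
  · exact Or.inl h1
  right
  by_cases hX : χ ∈ D.X
  · have h2 := mn_X hζ D hs hX
    have h3 := one_lt_dg hna h1
    rcases D.δ_sign χ hX with hδ | hδ <;> rw [hδ] at h2
    · obtain ⟨a1, a2⟩ := h2 1
      have a3 : mn hζ x χ (1 : (ZMod p)ˣ) ≠ 0 := by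
        intro h0; rw [h0] at a1; omega
      obtain ⟨u, hu⟩ := Nat.exists_eq_add_one_of_ne_zero a3
      rw [hu] at a1 a2
      refine Or.inl ⟨hX, h1, hδ, u, by zify; push_cast at a1; linarith, by omega, fun k => ?_⟩
      have := (h2 k).2
      omega
    · obtain ⟨a1, a2⟩ := h2 1
      refine Or.inr (Or.inl ⟨hX, h1, hδ, mn hζ x χ 0, ?_, rfl, fun k => ?_⟩)
      · zify; rw [a2]; linarith
      · have := (h2 k).2
        omega
  by_cases hY : χ ∈ Ys D
  · obtain ⟨a, ha⟩ := (mem_Ys D).1 hY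
    exact Or.inr (Or.inr (Or.inl ⟨a, ha.symm⟩))
  have h2 := mn_other hζ D h hX hY
  have a3 : mn hζ x χ 0 ≠ 0 := by
    intro h0
    have := h2 0
    rw [h0] at this
    have := dg_pos χ
    omega
  obtain ⟨u, hu⟩ := Nat.exists_eq_add_one_of_ne_zero a3
  refine Or.inr (Or.inr (Or.inr ⟨hX, hY, u, by rw [← h2 0, hu, mul_comm], fun k => ?_⟩))
  exact Nat.eq_of_mul_eq_mul_left hp0 (by rw [h2, ← hu, h2])

omit D in
theorem neg_one_notMem (hp2 : p ≠ 2) {U : Subgroup (ZMod p)ˣ} (h : Odd (Nat.card U)) : -1 ∉ U := by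
  intro h1
  have : Fact (2 < p) := ⟨lt_of_le_of_ne hp.out.two_le hp2.symm⟩
  have h2 := orderOf_dvd_natCard (⟨-1, h1⟩ : U)
  rw [← Subgroup.orderOf_coe, ← orderOf_units, Units.val_neg, Units.val_one,
    orderOf_neg_one, ZMod.ringChar_zmod_n, if_neg hp2] at h2
  exact (Nat.not_even_iff_odd.2 h) (even_iff_two_dvd.2 h2)

theorem X_eq_of_card (hs : Syl p x) (hp2 : p ≠ 2) {S T : Finset (IrrCharacter G)}
    (hS : ∀ χ ∈ S, χ ∈ D.X ∧ dg χ = p + 1) (hT : ∀ χ ∈ T, χ ∈ D.X ∧ dg χ + 1 = p)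
    (h : ee x ≤ S.card + T.card + 1) :
    ∀ χ ∈ D.X, χ ≠ irrOne G → (dg χ = p + 1 ∧ D.δ χ = 1) ∨ (dg χ + 1 = p ∧ D.δ χ = -1) := by
  classical
  have h2 := hp.out.two_le
  rw [← Finset.card_union_of_disjoint (by
    rw [Finset.disjoint_left]; intro χ h1 h2; have := hS χ h1; have := hT χ h2; omega),
    ← card_erase D hs, add_le_add_iff_right] at h
  have h3 := Finset.eq_of_subset_of_card_le (fun χ hχ => ?_) h
  · intro χ hχ h1
    have h4 := Finset.mem_erase.2 ⟨h1, hχ⟩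
    rw [← h3] at h4
    rcases (Finset.mem_union.1 h4).imp (hS χ) (hT χ) with h4 | h4
    · exact Or.inl ⟨h4.2, δ_eq_of_modEq D hp2 hχ (Or.inl rfl) (by
        rw [h4.2, Int.modEq_iff_dvd]; exact ⟨-1, by push_cast; ring⟩)⟩
    · exact Or.inr ⟨h4.2, δ_eq_of_modEq D hp2 hχ (Or.inr rfl) (by
        rw [Int.modEq_iff_dvd]; exact ⟨-1, by rw [← h4.2]; push_cast; ring⟩)⟩
  · rcases (Finset.mem_union.1 hχ).imp (hS χ) (hT χ) with h4 | h4 <;>
    · refine Finset.mem_erase.2 ⟨?_, h4.1⟩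
      rintro rfl
      rw [dg_one] at h4
      omega

include hζ in
theorem pos_case [IsSimpleGroup G] (hna : ∃ a b : G, a * b ≠ b * a) (h : SC p x)
    (hε : D.ε = 1) (hz : z0 D = ee x) (he : ee x ≠ p - 1) :
    p = 2 * ee x + 1 ∧ Odd (ee x) ∧ (∃ χ ∈ D.X, dg χ = p + 1) ∧ (∃ χ ∈ D.X, dg χ + 1 = p) ∧
    ∀ χ ∈ D.X, χ ≠ irrOne G → (dg χ = p + 1 ∧ D.δ χ = 1) ∨ (dg χ + 1 = p ∧ D.δ χ = -1) := by
  classical
  have := Fintype.ofFinite G
  have hs := h.syl
  have hp0 := hp.out.two_le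
  have he1 := ee_ne_one_of_perfect hs (commutator_eq_top hna)
  have he0 := ee_pos x
  have hed := ee_dvd hs
  set e := ee x with he'
  have hcases := irr_cases hζ D hna h
  obtain ⟨o0, ok⟩ := mn_one hζ D hs
  have hY0 : ∀ a, mn hζ x (D.Y a) 0 = 0 := fun a => by
    have := mn_Y_zero hζ D hs a
    rw [hε, hz, ← he', one_mul, sub_self] at this
    have h2 : p * mn hζ x (D.Y a) 0 = 0 := by exact_mod_cast this
    exact (mul_eq_zero.1 h2).resolve_left hp.out.ne_zero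
  have hYa : ∀ a : (ZMod p)ˣ, mn hζ x (D.Y a) a = 1 := fun a => by
    have := mn_Y hζ D hs a a
    rw [hY0, inv_mul_cancel, if_pos (one_mem _), hε] at this
    exact_mod_cast this
  set θ : G → ℂ := (D.Y 1 : G → ℂ) with hθ
  have hθc : IsCharacter G θ := irr_isCharacter _
  have hθ1 : θ 1 = e := by rw [hθ, Y_one, hz]
  have hf1 : IsCharacter G (θ * fun g => conj (θ g)) := isCharacter_mul hθc (isCharacter_conj hθc)
  have hf2 : IsCharacter G (θ * θ) := isCharacter_mul hθc hθc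
  obtain ⟨m1, hm1, hd1⟩ := exists_char_eq_sum_nat hf1
  obtain ⟨m2, -, hd2⟩ := exists_char_eq_sum_nat hf2
  set f1 := θ * fun g => conj (θ g) with hf1'
  set f2 := θ * θ with hf2'
  have s1 : ∑ j : (ZMod p)ˣ, f1 (x ^ (j : ZMod p).val) = p * e - e ^ 2 := by
    have := sum_Y_conj_Y hζ D hs 1 1
    rwa [inv_mul_cancel, if_pos (one_mem _)] at this
  have f11 : f1 1 = e ^ 2 := by simp [hf1', hθ1, sq]
  have f21 : f2 1 = e ^ 2 := by simp [hf2', hθ1, sq]
  have a1 : ∑ χ, m1 χ * mn hζ x χ 0 = e := by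
    have := mul_mu_zero hζ (x := x) f1
    rw [s1, f11, mu_eq_sum hζ hs.pow_p hd1] at this
    exact Nat.cast_injective (R := ℂ) (mul_left_cancel₀ (p_ne_zero (p := p)) (this.trans (by ring)))
  have a2 : e + ∑ k : (ZMod p)ˣ, ∑ χ, m1 χ * mn hζ x χ k = e ^ 2 := by
    have := sum_mu hζ (x := x) f1
    rw [sum_zmod_eq, f11] at this
    simp only [mu_eq_sum hζ hs.pow_p hd1, a1] at this
    exact_mod_cast this
  have a3 : m1 (irrOne G) = 1 := by
    have := hm1 (irrOne G)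
    rw [irrOne_coe, hf1', show (θ * fun g => conj (θ g)) = fun g => θ g * conj (θ g) from rfl,
      classInner_mul_conj_one, classInner_irr_self (D.Y 1).2] at this
    exact_mod_cast this.symm
  have a4 : ∀ k : (ZMod p)ˣ, ∀ χ ∈ Finset.univ, m1 χ * mn hζ x χ 0 ≤
      2 * (m1 χ * mn hζ x χ k) + if χ = irrOne G then 1 else 0 := by
    intro k χ _
    rcases hcases χ with rfl | ⟨-, -, -, u, -, b1, b2⟩ | ⟨-, -, -, u, -, b1, b2⟩ | ⟨a, rfl⟩ |
      ⟨-, -, u, -, b⟩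
    · simp [a3, o0]
    · rw [b1, b2]; nlinarith [Nat.zero_le (m1 χ * u), Nat.zero_le (if χ = irrOne G then 1 else 0)]
    · rw [b1, b2]; nlinarith [Nat.zero_le (m1 χ * u), Nat.zero_le (if χ = irrOne G then 1 else 0)]
    · simp [hY0]
    · rw [b, b]; omega
  have a5 : ∀ k : (ZMod p)ˣ, ∑ χ, (2 * (m1 χ * mn hζ x χ k) + if χ = irrOne G then 1 else 0) =
      2 * ∑ χ, m1 χ * mn hζ x χ k + 1 := fun k => by
    rw [Finset.sum_add_distrib, Finset.sum_ite_eq', if_pos (Finset.mem_univ _), Finset.mul_sum]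
  have a6 : ∀ k ∈ (Finset.univ : Finset (ZMod p)ˣ), e ≤ 2 * ∑ χ, m1 χ * mn hζ x χ k + 1 :=
    fun k _ => a1 ▸ a5 k ▸ Finset.sum_le_sum (a4 k)
  have a7 : ∑ k : (ZMod p)ˣ, (2 * ∑ χ, m1 χ * mn hζ x χ k + 1) =
      2 * ∑ k : (ZMod p)ˣ, ∑ χ, m1 χ * mn hζ x χ k + (p - 1) := by
    rw [Finset.sum_add_distrib, ← Finset.mul_sum]; simp [Nat.totient_prime hp.out]
  have a8 : ∑ _k : (ZMod p)ˣ, e = (p - 1) * e := by simp [Nat.totient_prime hp.out]
  have a9 := Finset.sum_le_sum a6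
  rw [a7, a8] at a9
  obtain ⟨t, ht⟩ := hed
  have ht2 : t = 2 := by
    have : t ≠ 1 := by rintro rfl; omega
    have : t ≠ 0 := by rintro rfl; omega
    by_contra h3
    have h4 : 3 ≤ t := by omega
    obtain ⟨c, hc⟩ : ∃ c, e = c + 2 := ⟨e - 2, by omega⟩
    rw [ht, hc] at a9
    rw [hc] at a2
    nlinarith [Nat.mul_le_mul_left ((c + 2) * (c + 1)) h4]
  rw [ht2] at ht
  have hpe : p = 2 * e + 1 := by omega
  have hp2 : p ≠ 2 := by omega
  have a10 := (Finset.sum_eq_sum_iff_of_le a6).1 (by rw [a7, a8, ht]; nlinarith)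
  obtain ⟨κ, hκ⟩ : ∃ κ, e = 2 * κ + 1 := ⟨_, a10 1 (Finset.mem_univ _)⟩
  have a11 : ∀ χ, m1 χ ≠ 0 → χ = irrOne G ∨ (χ ∈ D.X ∧ D.δ χ = 1 ∧ dg χ = p + 1 ∧ mn hζ x χ 0 ≠ 0) := by
    intro χ hχ
    have h3 : ∀ k : (ZMod p)ˣ, m1 χ * mn hζ x χ 0 =
        2 * (m1 χ * mn hζ x χ k) + if χ = irrOne G then 1 else 0 := fun k =>
      (Finset.sum_eq_sum_iff_of_le (a4 k)).1 (by rw [a1, a5, ← a10 k (Finset.mem_univ _)]) χ
        (Finset.mem_univ _)
    have h4 := Nat.pos_of_ne_zero hχ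
    rcases hcases χ with rfl | ⟨b0, b3, b4, u, b5, b1, b2⟩ | ⟨-, b3, -, u, -, b1, b2⟩ | ⟨a, rfl⟩ |
      ⟨-, -, u, -, b⟩
    · exact Or.inl rfl
    · have := h3 1
      rw [b1, b2, if_neg b3] at this
      have hu : u = 0 := by nlinarith
      exact Or.inr ⟨b0, b4, by rw [b5, hu]; ring, by omega⟩
    · have := h3 1
      rw [b1, b2, if_neg b3] at this
      nlinarith
    · have := h3 a
      rw [hY0, hYa] at this
      omega
    · have := h3 1
      rw [b, b] at this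
      nlinarith [Nat.zero_le (if χ = irrOne G then 1 else 0)]
  have a12 : ∀ j : (ZMod p)ˣ, f1 (x ^ (j : ZMod p).val) = (∑ χ, m1 χ : ℕ) := by
    intro j
    rw [apply_eq_sum hd1]; push_cast
    refine Finset.sum_congr rfl fun χ _ => ?_
    by_cases h0 : m1 χ = 0
    · simp [h0]
    rcases a11 χ h0 with rfl | ⟨b1, b2, -⟩
    · rw [irrOne_apply, mul_one]
    · rw [D.X_val χ b1 _ (dvd_orderOf_pow hs j), b2]; simp
  have hpc : (p : ℂ) = 2 * e + 1 := by rw [hpe]; push_cast; ring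
  have hec : (e : ℂ) ≠ 0 := Nat.cast_ne_zero.2 he0.ne'
  have a13 : ∑ χ, m1 χ = κ + 1 := by
    simp only [a12, Finset.sum_const, Finset.card_univ, ZMod.card_units, nsmul_eq_mul, ht] at s1
    rw [hpc] at s1
    have : ((2 * ∑ χ, m1 χ : ℕ) : ℂ) = (e + 1 : ℕ) :=
      mul_left_cancel₀ hec (by push_cast at s1 ⊢; linear_combination s1)
    have := Nat.cast_injective this
    omega
  have s2 : ∑ j : (ZMod p)ˣ, f2 (x ^ (j : ZMod p).val) = - e ^ 2 := by
    have := sum_Y_conj_Y hζ D hs 1 (-1)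
    rw [inv_one, one_mul, if_neg (neg_one_notMem hp2 (by rw [card_U D hs]; exact ⟨κ, hκ⟩)),
      zero_sub] at this
    simp only [conj_Y hζ, neg_neg] at this
    exact this
  have a14 : ∀ χ, m2 χ ≠ 0 → mn hζ x χ 0 = 0 := by
    have := mul_mu_zero hζ (x := x) f2
    rw [s2, f21, mu_eq_sum hζ hs.pow_p hd2, add_neg_cancel, mul_eq_zero, Nat.cast_eq_zero,
      Nat.cast_eq_zero, Finset.sum_eq_zero_iff] at this
    intro χ hχ
    exact (mul_eq_zero.1 (this.resolve_left hp.out.ne_zero χ (Finset.mem_univ _))).resolve_left hχ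
  have a15 : classInner f1 f2 = 0 := by
    rw [inner_eq_sum hd1 hd2, Nat.cast_eq_zero]
    refine Finset.sum_eq_zero fun χ _ => ?_
    by_contra h0
    have h3 := a14 χ (right_ne_zero_of_mul h0)
    rcases a11 χ (left_ne_zero_of_mul h0) with rfl | ⟨-, -, -, b⟩
    · omega
    · exact b h3
  have a16 : classInner f1 f1 = (κ + 1 : ℕ) := by
    have c1 := isClassFunction_of_isCharacter hf1
    have c2 := isClassFunction_of_isCharacter hf2
    have h3 := inner_sub_inner D h c1 c1 c1 c2 fun g hg => by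
      have := conj_Y_reg hζ D h he 1 1 hg
      simp only [hf1', hf2', Pi.mul_apply]
      rw [← hθ] at this
      rw [this]
    have s3 := congrArg conj s2
    simp only [a12, a13, a15, Finset.sum_sub_distrib, ← Finset.mul_sum, ← map_sum, s2,
      Finset.sum_const, Finset.card_univ, ZMod.card_units, nsmul_eq_mul, ht, ← he', map_natCast,
      map_neg, map_pow] at h3
    apply mul_left_cancel₀ (mul_ne_zero (p_ne_zero (p := p)) hec)
    have hκ' : (e : ℂ) = 2 * κ + 1 := by rw [hκ]; push_cast; ring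
    rw [sub_zero] at h3
    rw [h3, hpc]; push_cast; rw [hκ']; ring
  have a17 : ∑ χ, m2 χ * m2 χ = κ + 1 := by
    have : classInner f2 f2 = classInner f1 f1 := by
      rw [classInner_def, classInner_def]
      congr 1
      refine Finset.sum_congr rfl fun g _ => ?_
      simp only [hf1', hf2', Pi.mul_apply, map_mul, Complex.conj_conj]; ring
    rw [a16, inner_eq_sum hd2 hd2] at this
    exact_mod_cast this
  have a18 : ∑ χ, m1 χ * m1 χ = κ + 1 := by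
    rw [inner_eq_sum hd1 hd1] at a16
    exact_mod_cast a16
  set Sp := Finset.univ.filter (fun χ => χ ∈ D.X ∧ dg χ = p + 1) with hSp
  set Sm := Finset.univ.filter (fun χ => χ ∈ D.X ∧ dg χ + 1 = p) with hSm
  have hp1 : ∀ χ : IrrCharacter G, dg χ = p + 1 → χ ≠ irrOne G := by
    rintro _ h3 rfl
    rw [dg_one] at h3; omega
  have b1 : ∀ g : ℕ → ℕ, g 0 = 0 → ∑ χ, g (m1 χ) = ∑ χ ∈ Sp, g (m1 χ) + g 1 := by
    intro g hg
    rw [← a3, add_comm, ← Finset.sum_insert (f := fun χ => g (m1 χ)) (by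
        intro h3; exact hp1 _ (Finset.mem_filter.1 h3).2.2 rfl)]
    refine (Finset.sum_subset (Finset.subset_univ _) fun χ _ hχ => ?_).symm
    by_cases h0 : m1 χ = 0
    · rw [h0, hg]
    rcases a11 χ h0 with rfl | ⟨c1, -, c2, -⟩
    · exact absurd (Finset.mem_insert_self _ _) hχ
    · exact absurd (Finset.mem_insert_of_mem (Finset.mem_filter.2 ⟨Finset.mem_univ _, c1, c2⟩)) hχ
  have b2 : κ ≤ Sp.card := by
    have c1 := b1 (fun n => n) rfl
    have c2 := b1 (fun n => n * n) rfl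
    have := sum_le_card_of_sq_le Sp m1 (by omega)
    omega
  have b3 : κ ≤ Sm.card := by
    have c1 := one_eq_sum hd2
    rw [f21] at c1
    have c2 : e ^ 2 = ∑ χ, m2 χ * dg χ := by exact_mod_cast c1
    rw [← Finset.sum_add_sum_compl Sm] at c2 a17
    have c3 : ∑ χ ∈ Sm, m2 χ * dg χ = (∑ χ ∈ Sm, m2 χ) * (2 * e) := by
      rw [Finset.sum_mul]
      refine Finset.sum_congr rfl fun χ hχ => ?_
      have := (Finset.mem_filter.1 hχ).2.2
      congr 1; omega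
    have c4 : ∑ χ ∈ Smᶜ, m2 χ * dg χ = (∑ χ ∈ Smᶜ, m2 χ) * e := by
      rw [Finset.sum_mul]
      refine Finset.sum_congr rfl fun χ hχ => ?_
      by_cases h0 : m2 χ = 0
      · simp [h0]
      have h3 := a14 χ h0
      rcases hcases χ with rfl | ⟨-, -, -, u, -, d1, -⟩ | ⟨d0, -, -, u, d1, d2, -⟩ | ⟨a, rfl⟩ |
        ⟨-, -, u, -, d1⟩
      · omega
      · omega
      · rw [← d2, h3] at d1
        exact absurd (Finset.mem_filter.2 ⟨Finset.mem_univ _, d0, by omega⟩) (Finset.mem_compl.1 hχ)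
      · rw [← hz]; exact congrArg _ (deg_Y D a)
      · rw [d1] at h3; omega
    have c5 : ∑ χ ∈ Smᶜ, m2 χ ≤ ∑ χ ∈ Smᶜ, m2 χ * m2 χ :=
      Finset.sum_le_sum fun _ _ => Nat.le_mul_self _
    have c6 : ∑ χ ∈ Sm, m2 χ ≤ ∑ χ ∈ Sm, m2 χ * m2 χ :=
      Finset.sum_le_sum fun _ _ => Nat.le_mul_self _
    have c7 : e = 2 * ∑ χ ∈ Sm, m2 χ + ∑ χ ∈ Smᶜ, m2 χ :=
      Nat.eq_of_mul_eq_mul_right he0 (by rw [← sq, c2, c3, c4]; ring)
    have := sum_le_card_of_sq_le Sm m2 (by omega)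
    omega
  refine ⟨hpe, ⟨κ, hκ⟩, ?_, ?_, X_eq_of_card D hs hp2 (S := Sp) (T := Sm)
    (fun χ hχ => (Finset.mem_filter.1 hχ).2) (fun χ hχ => (Finset.mem_filter.1 hχ).2) (by omega)⟩
  · obtain ⟨χ, hχ⟩ := Finset.card_pos.1 (by omega : 0 < Sp.card)
    exact ⟨χ, (Finset.mem_filter.1 hχ).2⟩
  · obtain ⟨χ, hχ⟩ := Finset.card_pos.1 (by omega : 0 < Sm.card)
    exact ⟨χ, (Finset.mem_filter.1 hχ).2⟩

end CfsgLib.Tuan
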