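import Mathlib
import Cfsg.Agent.Lib.Tuan.Pos
import Cfsg.Agent.Lib.Char.Square

/-!
A simple group with a self-centralizing element of prime order `p` whose exceptional characters have degree
`p - e`.
-/

set_option autoImplicit false
set_option linter.unusedSectionVars false

namespace CfsgLib.Tuan

open Cfsg CfsgLib.Char CfsgLib.Block CfsgLib.DefectOne CfsgLib.DefectOne.B43 Subgroup
open scoped ComplexConjugate

variable {G : Type*} [Group G] [Finite G] {p : ℕ} [hp : Fact p.Prime] {x : G} {ζ : ℂ}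
  (hζ : IsPrimitiveRoot ζ p) (D : PrinData p x ζ)

theorem mem_U_iff (hs : Syl p x) {a : (ZMod p)ˣ} : a ∈ D.U ↔ a ^ ee x = 1 := by
  classical
  have h1 : Uf D ⊆ Finset.univ.filter fun a => a ^ ee x = 1 := fun u hu => by
    have := pow_card_eq_one' (x := (⟨u, (mem_Uf D).1 hu⟩ : D.U))
    rw [card_U D hs] at this
    exact Finset.mem_filter.2 ⟨Finset.mem_univ _, congrArg Subtype.val this⟩
  have h2 := Finset.eq_of_subset_of_card_le h1 (by
    rw [card_Uf, card_U D hs]; exact IsCyclic.card_pow_eq_one_le (ee_pos x))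
  rw [← mem_Uf, h2]; simp

include hζ in
theorem Y_eq_of_apply (hs : Syl p x) {a b : (ZMod p)ˣ}
    (h : (D.Y a : G → ℂ) x = (D.Y b : G → ℂ) x) : D.Y a = D.Y b := by
  classical
  have := Fintype.ofFinite G
  have h1 : ∀ j : (ZMod p)ˣ, (D.Y a : G → ℂ) (x ^ (j : ZMod p).val) =
      (D.Y b : G → ℂ) (x ^ (j : ZMod p).val) := fun j => by
    obtain ⟨τ, hτ⟩ := exists_ringEquiv_char_pow x (k := (j : ZMod p).val)
      (hs.ord ▸ ZMod.val_coe_unit_coprime j)
    rw [← hτ _ (isGenChar_of_isIrr (D.Y a).2), ← hτ _ (isGenChar_of_isIrr (D.Y b).2), h]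
  have h4 := sum_Y_conj_Y hζ D hs a b
  have h5 := sum_Y_conj_Y hζ D hs b b
  simp only [h1] at h4
  rw [h4, inv_mul_cancel, if_pos (one_mem _), sub_left_inj] at h5
  rw [D.Y_eq_iff]
  by_contra h6
  rw [if_neg h6] at h5
  exact mul_ne_zero p_ne_zero (Nat.cast_ne_zero.2 (ee_pos x).ne') h5.symm

theorem mn_Y_neg (hs : Syl p x) (hε : D.ε = -1) (hz : z0 D + ee x = p) (a : (ZMod p)ˣ) :
    mn hζ x (D.Y a) 0 = 1 := by
  have := mn_Y_zero hζ D hs a
  rw [hε] at this
  refine Nat.eq_of_mul_eq_mul_left hp.out.pos ?_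
  omega

include hζ in
theorem Y_real (hs : Syl p x) (he : Even (ee x)) (a j : (ZMod p)ˣ) :
    conj ((D.Y a : G → ℂ) (x ^ (j : ZMod p).val)) = (D.Y a : G → ℂ) (x ^ (j : ZMod p).val) := by
  rw [conj_Y hζ, (D.Y_eq_iff (-a) a).2]
  rw [inv_neg, neg_mul, inv_mul_cancel, mem_U_iff D hs]
  exact he.neg_one_pow

include hζ in
/-- the exterior square of an exceptional character has no exceptional constituent -/
theorem alt_const [IsSimpleGroup G] (hna : ∃ a b : G, a * b ≠ b * a) (h : SC p x)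
    (hε : D.ε = -1) (hz : z0 D + ee x = p) (h4 : 4 ∣ ee x) :
    ∃ M : ℤ, ∀ j : (ZMod p)ˣ, (D.Y 1 : G → ℂ) (x ^ (j : ZMod p).val) ^ 2 -
      (D.Y 1 : G → ℂ) (x ^ (j : ZMod p).val * x ^ (j : ZMod p).val) = 2 * M := by
  classical
  have := Fintype.ofFinite G
  have hs := h.syl
  have hp0 := hp.out.two_le
  have hed := ee_dvd hs
  have he0 := ee_pos x
  have hev : Even (ee x) := even_iff_two_dvd.2 ((by norm_num : 2 ∣ 4).trans h4)
  obtain ⟨w, hw, hwo, hw1, -⟩ := h.exists_gen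
  obtain ⟨c, hc⟩ := h4
  set i := w ^ (2 * c) with hi
  have hiN : i ∈ NN x := pow_mem hw _
  have hiC : i ∉ CC x := fun h1 => by
    have := Nat.le_of_dvd (by omega) (hw1 _ h1)
    omega
  have hi2 : i ^ 2 = 1 := by
    rw [hi, ← pow_mul, (by omega : 2 * c * 2 = ee x), ← hwo, pow_orderOf_eq_one]
  have hi3 : ¬ p ∣ orderOf i := fun h1 => by
    have := Nat.le_of_dvd two_pos (h1.trans (orderOf_dvd_of_pow_eq_one hi2))
    have := Nat.le_of_dvd (by omega) hed
    omega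
  have hY1 : ∀ a, (D.Y a : G → ℂ) i = 1 := fun a => by
    obtain ⟨m, hm⟩ := exists_eq_sub_four_mul (commutator_eq_top hna) (irr_isCharacter (D.Y a)) hi2
    have h1 := norm_le_mu hζ hs (irr_isCharacter (D.Y a)) hiN hiC
    rw [← mn_cast hζ hs.pow_p, mn_Y_neg hζ D hs hε hz, hm, Y_one] at h1
    have h2 : ((z0 D : ℂ) - 4 * m) = ((z0 D - 4 * m : ℤ) : ℂ) := by push_cast; ring
    rw [h2, Complex.norm_intCast, Nat.cast_one, norm_one, ← Int.cast_abs] at h1
    have h3 : |(z0 D - 4 * m : ℤ)| ≤ 1 := by exact_mod_cast h1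
    obtain ⟨t, ht⟩ := hed
    have h5 : p = 4 * (c * t) + 1 := by rw [← mul_assoc, ← hc]; omega
    rw [abs_le] at h3
    rw [hm, Y_one, h2, (by omega : (z0 D - 4 * m : ℤ) = 1), Int.cast_one]
  set θ : G → ℂ := (D.Y 1 : G → ℂ) with hθ
  have hθc : IsCharacter G θ := irr_isCharacter _
  have hθ1 : θ 1 = z0 D := by rw [hθ, Y_one]
  have hf := isCharacter_altSq hθc
  obtain ⟨m, hm, hd⟩ := exists_char_eq_sum_nat hf
  set f : G → ℂ := fun g => (θ g ^ 2 - θ (g * g)) / 2 with hf'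
  have hzc : (z0 D : ℂ) = p - ee x := eq_sub_of_add_eq (by exact_mod_cast hz)
  have hp2 : (2 : ZMod p) ≠ 0 := fun h0 => by
    have h1 : ((2 : ℕ) : ZMod p) = 0 := by exact_mod_cast h0
    rw [ZMod.natCast_eq_zero_iff] at h1
    have := Nat.le_of_dvd two_pos h1
    have := Nat.le_of_dvd (by omega) hed
    omega
  have s1 : ∑ j : (ZMod p)ˣ, θ (x ^ (j : ZMod p).val) ^ 2 = p * ee x - ee x ^ 2 := by
    have := sum_Y_conj_Y hζ D hs 1 1
    rw [inv_mul_cancel, if_pos (one_mem _)] at this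
    simpa only [Y_real hζ D hs hev, sq] using this
  have s2 : ∑ j : (ZMod p)ˣ, θ (x ^ (j : ZMod p).val * x ^ (j : ZMod p).val) = ee x := by
    have := sum_Y_pow hζ D hs (1 * Units.mk0 2 hp2)
    simp only [Y_mul_pow hζ D 1, hε] at this
    refine Eq.trans ?_ (this.trans (by simp))
    refine Finset.sum_congr rfl fun j _ => congrArg θ ?_
    rw [← pow_add]
    exact hs.pow_eq_of_natCast_eq (by simp; ring)
  have hmu : mu hζ x f 0 = (z0 D - 1) / 2 := by
    apply mul_left_cancel₀ (p_ne_zero (p := p))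
    rw [mul_mu_zero]
    simp only [hf', mul_one, hθ1]
    rw [← Finset.sum_div, Finset.sum_sub_distrib, s1, s2, hzc]; ring
  have hmY : ∀ a, m (D.Y a) = 0 := fun a => by
    by_contra h0
    have h1 := isCharacter_sub_of_inner_ne_zero hf (D.Y a).2 (by
      rw [hm]; exact_mod_cast h0)
    have h2 := norm_le_mu hζ hs h1 hiN hiC
    have h3 : mu hζ x (f - D.Y a) 0 = (z0 D - 3) / 2 := by
      apply mul_left_cancel₀ (p_ne_zero (p := p))
      have h4 := mul_mu_zero hζ (x := x) (D.Y a : G → ℂ)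
      have h5 := mul_mu_zero hζ (x := x) f
      rw [← mn_cast hζ hs.pow_p, mn_Y_neg hζ D hs hε hz] at h4
      rw [hmu] at h5
      rw [mul_mu_zero]
      simp only [Pi.sub_apply, Finset.sum_sub_distrib]
      push_cast at h4
      linear_combination h4 - h5
    have h4 : (f - D.Y a) i = -((z0 D + 1) / 2) := by
      simp only [Pi.sub_apply, hf', hθ, hY1, ← sq, hi2, Y_one]; ring
    obtain ⟨n, hn⟩ := exists_mu_nat hζ hs.pow_p h1 0
    have h5 : (z0 D : ℂ) = 2 * n + 3 := by rw [h3] at hn; linear_combination 2 * hn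
    rw [h4, hn, h5, norm_neg, (by push_cast; ring : ((2 * n + 3 + 1) / 2 : ℂ) = (n + 2 : ℕ)),
      Complex.norm_natCast, Complex.norm_natCast, Nat.cast_le] at h2
    omega
  refine ⟨∑ χ, m χ * if χ ∈ D.X then D.δ χ else 0, fun j => ?_⟩
  have h1 := apply_eq_sum hd (x ^ (j : ZMod p).val)
  simp only [hf'] at h1
  rw [div_eq_iff two_ne_zero] at h1
  rw [h1, mul_comm]
  push_cast
  congr 1
  refine Finset.sum_congr rfl fun χ _ => ?_
  split_ifs with hX
  · rw [D.X_val χ hX _ (dvd_orderOf_pow hs j)]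
  by_cases hY : χ ∈ Ys D
  · obtain ⟨a, rfl⟩ := (mem_Ys D).1 hY
    simp [hmY]
  · rw [other_eq_zero D h hX hY (dvd_orderOf_pow hs j)]

theorem two_pow_aux {c : ℕ} (hc : 1 ≤ c) : 2 * c ≤ 2 ^ c := by
  induction c, hc using Nat.le_induction with
  | base => norm_num
  | succ n hn ih =>
    have : 2 ≤ 2 ^ n := Nat.le_self_pow (by omega) 2
    rw [pow_succ]; omega

include hζ in
theorem neg_two [IsSimpleGroup G] (hna : ∃ a b : G, a * b ≠ b * a) (h : SC p x)
    (hε : D.ε = -1) (hz : z0 D + ee x = p) {c : ℕ} (hc : ee x = 2 ^ (c + 2)) (he : ee x ≠ p - 1) :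
    p = 2 * ee x + 1 := by
  classical
  have hs := h.syl
  have hp0 := hp.out.two_le
  have h4 : 4 ∣ ee x := ⟨2 ^ c, by rw [hc]; ring⟩
  have hev : Even (ee x) := even_iff_two_dvd.2 ((by norm_num : 2 ∣ 4).trans h4)
  obtain ⟨M, hM⟩ := alt_const hζ D hna h hε hz h4
  have he0 := ee_pos x
  have ht := card_Ys_mul D
  rw [card_U D hs] at ht
  set t := (Ys D).card with ht'
  have hp2 : (2 : ZMod p) ≠ 0 := fun h0 => by
    have h1 : ((2 : ℕ) : ZMod p) = 0 := by exact_mod_cast h0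
    rw [ZMod.natCast_eq_zero_iff] at h1
    have := Nat.le_of_dvd two_pos h1
    have := Nat.le_of_dvd (by omega) (ee_dvd hs)
    omega
  have s0 : ∀ j : (ZMod p)ˣ, (D.Y 1 : G → ℂ) (x ^ (j : ZMod p).val * x ^ (j : ZMod p).val) =
      (D.Y (1 * Units.mk0 2 hp2) : G → ℂ) (x ^ (j : ZMod p).val) := fun j => by
    rw [Y_mul_pow hζ D 1, ← pow_add]
    exact congrArg _ (hs.pow_eq_of_natCast_eq (by simp; ring))
  have s1 := sum_Y_conj_Y hζ D hs 1 1
  rw [inv_mul_cancel, if_pos (one_mem _)] at s1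
  simp only [Y_real hζ D hs hev, ← sq] at s1
  have s2 := sum_Y_pow hζ D hs (1 * Units.mk0 2 hp2)
  have s3 := Finset.sum_congr rfl fun j (_ : j ∈ Finset.univ) => hM j
  simp only [s0] at s3 hM
  rw [Finset.sum_sub_distrib, s1, s2, hε, Finset.sum_const, Finset.card_univ, ZMod.card_units,
    ← ht, nsmul_eq_mul] at s3
  have hpc : (p : ℂ) = t * ee x + 1 := by
    rw [(by omega : p = t * ee x + 1)]; push_cast; ring
  have s4 : ((t - 1) * ee x : ℤ) = 2 * M * t := by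
    have : (((t - 1) * ee x : ℤ) : ℂ) = (2 * M * t : ℤ) :=
      mul_left_cancel₀ (Nat.cast_ne_zero.2 he0.ne' : (ee x : ℂ) ≠ 0) (by
        rw [hpc] at s3; push_cast at s3 ⊢; linear_combination s3)
    exact_mod_cast this
  have ht1 : t ≠ 1 := by rintro h1; rw [h1] at ht; omega
  have ht0 : t ≠ 0 := by rintro h1; rw [h1] at ht; omega
  have s5 : t ∣ ee x := by
    have : (t : ℤ) ∣ ee x := ⟨ee x - 2 * M, by linear_combination -s4⟩
    exact_mod_cast this
  rw [hc, Nat.dvd_prime_pow Nat.prime_two] at s5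
  obtain ⟨s, hs1, hs2⟩ := s5
  have hs3 : s ≠ 0 := by rintro rfl; exact ht1 hs2
  have hs4 : s ≤ c + 1 := by
    by_contra h5
    have h6 : ee x = t := by rw [hc, hs2]; congr 1; omega
    rw [h6] at s4
    have h7 : (t - 1 : ℤ) = 2 * M := mul_right_cancel₀ (by exact_mod_cast ht0) s4
    have h8 : 2 ∣ t := hs2 ▸ dvd_pow_self 2 hs3
    omega
  have hpm : p = 2 ^ (s + (c + 2)) + 1 := by rw [pow_add, ← hs2, ← hc]; omega
  have h2U : Units.mk0 2 hp2 ∈ D.U := by
    rw [mem_U_iff D hs, ← orderOf_dvd_iff_pow_eq_one]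
    have h5 : orderOf (Units.mk0 2 hp2) ∣ 2 ^ (s + (c + 2)) := by
      have := orderOf_dvd_card (x := Units.mk0 2 hp2)
      rwa [ZMod.card_units, (by omega : p - 1 = 2 ^ (s + (c + 2)))] at this
    have h6 : orderOf (Units.mk0 2 hp2) ∣ (s + (c + 2)) * 2 := by
      rw [orderOf_dvd_iff_pow_eq_one]
      apply Units.ext
      have h7 : (2 : ZMod p) ^ (s + (c + 2)) = -1 := by
        have : ((2 ^ (s + (c + 2)) + 1 : ℕ) : ZMod p) = 0 := by
          rw [← hpm]; exact ZMod.natCast_self p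
        rw [eq_neg_iff_add_eq_zero]
        exact_mod_cast this
      simp [pow_mul, h7]
    obtain ⟨l, -, hl⟩ := (Nat.dvd_prime_pow Nat.prime_two).1 h5
    rw [hl] at h6 ⊢
    rw [hc]
    apply pow_dvd_pow
    have h7 := Nat.le_of_dvd (by omega) h6
    have h8 := two_pow_aux (by omega : 1 ≤ c + 2)
    have h9 : 2 ^ l < 2 ^ (c + 3) := by rw [pow_succ]; omega
    have := (Nat.pow_lt_pow_iff_right (by norm_num)).1 h9
    omega
  have hY2 : D.Y (1 * Units.mk0 2 hp2) = D.Y 1 := ((D.Y_eq_iff _ _).2 (by simpa using h2U)).symm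
  have : Fact (1 < p) := ⟨hp.out.one_lt⟩
  have hq : ∀ θ ∈ Ys D, (θ : G → ℂ) x ^ 2 - (θ : G → ℂ) x = 2 * M := by
    intro θ hθ
    obtain ⟨a, rfl⟩ := (mem_Ys D).1 hθ
    have h5 := Y_mul_pow hζ D 1 a 1
    rw [one_mul, mul_one, Units.val_one, ZMod.val_one, pow_one] at h5
    have := hM a
    rwa [hY2, ← h5] at this
  have hinj : ∀ θ ∈ Ys D, ∀ θ' ∈ Ys D, θ ≠ θ' → (θ : G → ℂ) x + (θ' : G → ℂ) x = 1 := by
    intro θ hθ θ' hθ' hne
    have h5 : (θ : G → ℂ) x - (θ' : G → ℂ) x ≠ 0 := by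
      obtain ⟨a, rfl⟩ := (mem_Ys D).1 hθ
      obtain ⟨b, rfl⟩ := (mem_Ys D).1 hθ'
      exact sub_ne_zero.2 fun h0 => hne (Y_eq_of_apply hζ D hs h0)
    exact mul_left_cancel₀ h5 (by linear_combination hq θ hθ - hq θ' hθ')
  have ht2 : ¬ 2 < t := by
    rw [ht', Finset.two_lt_card]
    rintro ⟨a, ha, b, hb, c, hc, hab, hac, hbc⟩
    have h5 := hinj a ha b hb hab
    have h6 := hinj a ha c hc hac
    obtain ⟨b, rfl⟩ := (mem_Ys D).1 hb
    obtain ⟨c, rfl⟩ := (mem_Ys D).1 hc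
    exact hbc (Y_eq_of_apply hζ D hs (by linear_combination h5 - h6))
  have : t = 2 := by omega
  rw [this] at ht
  omega

end CfsgLib.Tuan
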