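import Mathlib
import Cfsg.Agent.Lib.Tuan.Neg

/-!
A simple group with a self-centralizing element of prime order `p = 2 e + 1` whose two exceptional characters
have degree `e + 1`.
-/

set_option autoImplicit false
set_option linter.unusedSectionVars false

namespace CfsgLib.Tuan

open Cfsg CfsgLib.Char CfsgLib.Block CfsgLib.DefectOne CfsgLib.DefectOne.B43 Subgroup
open scoped ComplexConjugate

variable {G : Type*} [Group G] [Finite G] {p : ℕ} [hp : Fact p.Prime] {x : G} {ζ : ℂ}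
  (hζ : IsPrimitiveRoot ζ p) (D : PrinData p x ζ)

theorem mu_sub (f g : G → ℂ) (k : ZMod p) : mu hζ x (f - g) k = mu hζ x f k - mu hζ x g k := by
  simp only [mu, Pi.sub_apply, sub_mul, Finset.sum_sub_distrib, mul_sub]

theorem exists_of_sum_eq_one {ι : Type*} [Fintype ι] {f : ι → ℕ} (h : ∑ i, f i = 1) :
    ∃ i, f i = 1 ∧ ∀ j, j ≠ i → f j = 0 := by
  classical
  obtain ⟨i, -, hi⟩ := Finset.exists_ne_zero_of_sum_ne_zero (h ▸ one_ne_zero : ∑ i, f i ≠ 0)
  rw [← Finset.add_sum_erase _ _ (Finset.mem_univ i)] at h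
  refine ⟨i, by omega, fun j hj => ?_⟩
  exact Finset.sum_eq_zero_iff.1 (by omega : ∑ j ∈ Finset.univ.erase i, f j = 0) j
    (Finset.mem_erase.2 ⟨hj, Finset.mem_univ _⟩)

theorem sum_le_card_of_le_one {ι : Type*} [Fintype ι] [DecidableEq ι] {m g c : ι → ℕ} (S : Finset ι)
    (h : ∀ i, m i ≠ 0 → g i = 0 ∨ (g i = 1 ∧ c i = 0 ∧ i ∈ S)) (hc : ∀ i, c i ≤ m i)
    (h2 : ∑ i, m i * m i ≤ ∑ i, m i * g i + ∑ i, c i) : ∑ i, m i * g i ≤ S.card := by
  have h1 : ∀ i ∈ Finset.univ, m i * g i + c i ≤ m i * m i := fun i _ => by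
    have := hc i
    by_cases h0 : m i = 0
    · simp [h0] at this ⊢; exact this
    rcases h i h0 with h3 | ⟨h3, h4, -⟩
    · rw [h3]; nlinarith [Nat.le_mul_self (m i)]
    · rw [h3, h4]; nlinarith [Nat.le_mul_self (m i)]
  have h3 := (Finset.sum_eq_sum_iff_of_le h1).1
    (le_antisymm (Finset.sum_le_sum h1) (by rwa [Finset.sum_add_distrib]))
  rw [Finset.card_eq_sum_ones, ← Finset.univ_inter S, ← Finset.sum_ite_mem]
  refine Finset.sum_le_sum fun i _ => ?_
  by_cases h0 : m i = 0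
  · simp [h0]
  rcases h i h0 with h4 | ⟨h4, h5, h6⟩
  · simp [h4]
  · have := h3 i (Finset.mem_univ _)
    rw [h4, h5, add_zero] at this
    rw [if_pos h6, h4, ← Nat.eq_of_mul_eq_mul_left (Nat.pos_of_ne_zero h0) this]

include hζ in
theorem neg_case [IsSimpleGroup G] (hna : ∃ a b : G, a * b ≠ b * a) (h : SC p x)
    (hε : D.ε = -1) (hz : z0 D + ee x = p) (hpe : p = 2 * ee x + 1) (hev : Even (ee x))
    (hX : ∀ χ ∈ D.X, χ ≠ irrOne G → 2 ∣ dg χ) : (∃ χ ∈ D.X, dg χ + 1 = p) ∧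
    ∀ χ ∈ D.X, χ ≠ irrOne G → (dg χ = p + 1 ∧ D.δ χ = 1) ∨ (dg χ + 1 = p ∧ D.δ χ = -1) := by
  classical
  have := Fintype.ofFinite G
  have hs := h.syl
  have he0 := ee_pos x
  have he : ee x ≠ p - 1 := by omega
  have hcases := irr_cases hζ D hna h
  obtain ⟨o0, ok⟩ := mn_one hζ D hs
  have ht := card_Ys_mul D
  rw [card_U D hs] at ht
  have ht2 : (Ys D).card = 2 := Nat.eq_of_mul_eq_mul_right he0 (by omega)
  obtain ⟨b, hb⟩ : ∃ b, D.Y b ≠ D.Y 1 := by
    obtain ⟨θ, hθ, h1⟩ := Finset.exists_mem_ne (by omega : 1 < (Ys D).card) (D.Y 1)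
    obtain ⟨b, rfl⟩ := (mem_Ys D).1 hθ
    exact ⟨b, h1⟩
  have hYs : Ys D = {D.Y 1, D.Y b} := (Finset.eq_of_subset_of_card_le (by
    intro θ hθ
    rcases Finset.mem_insert.1 hθ with rfl | hθ
    · exact Y_mem_Ys D 1
    · rw [Finset.mem_singleton.1 hθ]; exact Y_mem_Ys D b) (by rw [Finset.card_pair hb.symm, ht2])).symm
  have hYa : ∀ a, D.Y a = D.Y 1 ∨ D.Y a = D.Y b := fun a => by
    simpa [hYs] using Y_mem_Ys D a
  have hY0 := mn_Y_neg hζ D hs hε hz
  have hYk : ∀ a k : (ZMod p)ˣ, mn hζ x (D.Y a) k = if D.Y a = D.Y k then 0 else 1 := fun a k => by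
    have := mn_Y hζ D hs a k
    rw [hY0, hε, ← D.Y_eq_iff] at this
    split_ifs at this ⊢ <;> omega
  obtain ⟨κ, hκ⟩ := hev
  set e := ee x with he'
  set θ : G → ℂ := (D.Y 1 : G → ℂ) with hθ
  set θ' : G → ℂ := (D.Y b : G → ℂ) with hθ'
  have hθc : IsCharacter G θ := irr_isCharacter _
  have hθc' : IsCharacter G θ' := irr_isCharacter _
  have hz' : z0 D = 2 * κ + 1 := by omega
  have hθ1 : θ 1 = 2 * κ + 1 := by rw [hθ, Y_one, hz']; push_cast; ring
  have hθ1' : θ' 1 = 2 * κ + 1 := by rw [hθ', Y_one, hz']; push_cast; ring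
  have hpc : (p : ℂ) = 4 * κ + 1 := by rw [hpe, hκ]; push_cast; ring
  have hec : (e : ℂ) = 2 * κ := by rw [hκ]; push_cast; ring
  have hκ0 : (κ : ℂ) ≠ 0 := Nat.cast_ne_zero.2 (by omega)
  have hreal : ∀ a g, conj ((D.Y a : G → ℂ) g) = (D.Y a : G → ℂ) g := fun a g => by
    rw [← irrBar_apply', irrBar_Y hζ D h he a, (D.Y_eq_iff (-a) a).2 (by
      rw [inv_neg, neg_mul, inv_mul_cancel, mem_U_iff D hs]; exact Even.neg_one_pow ⟨κ, hκ⟩)]
  have hsum : ∀ j : (ZMod p)ˣ, θ' (x ^ (j : ZMod p).val) = 1 - θ (x ^ (j : ZMod p).val) := fun j => by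
    have := sum_Ys D hζ j (Commute.one_right x) not_dvd_orderOf_one
    rw [hYs, Finset.sum_pair hb.symm, mul_one, hε] at this
    push_cast at this
    linear_combination this
  have s1 : ∑ j : (ZMod p)ˣ, θ (x ^ (j : ZMod p).val) = 2 * κ := by
    rw [hθ, sum_Y_pow hζ D hs, hε, ← he', hec]; simp
  have s2 : ∑ j : (ZMod p)ˣ, θ (x ^ (j : ZMod p).val) ^ 2 = 4 * κ ^ 2 + 2 * κ := by
    have := sum_Y_conj_Y hζ D hs 1 1
    rw [inv_mul_cancel, if_pos (one_mem _), ← he', hec, hpc] at this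
    simp only [hreal, ← sq] at this
    rw [this]; ring
  have s0 : ∀ c : ℂ, ∑ _j : (ZMod p)ˣ, c = 4 * κ * c := fun c => by
    rw [Finset.sum_const, Finset.card_univ, ZMod.card_units, nsmul_eq_mul,
      (by omega : p - 1 = 4 * κ)]; push_cast; rfl
  have hB : ∀ j : (ZMod p)ˣ, θ (x ^ (j : ZMod p).val) * (1 - θ (x ^ (j : ZMod p).val)) = -κ := by
    have h1 : ∀ j : (ZMod p)ˣ, θ (x ^ (j : ZMod p).val) * (1 - θ (x ^ (j : ZMod p).val)) =
        θ (x ^ ((1 : (ZMod p)ˣ) : ZMod p).val) * (1 - θ (x ^ ((1 : (ZMod p)ˣ) : ZMod p).val)) := by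
      intro j
      have h2 := Y_mul_pow hζ D 1 j 1
      rw [mul_one, one_mul] at h2
      rw [hθ, ← h2]
      rcases hYa j with h3 | h3 <;> rw [h3]
      rw [← hθ', hsum]; ring
    have h2 := Finset.sum_congr rfl fun j (_ : j ∈ Finset.univ) => h1 j
    simp only [mul_sub, mul_one, ← sq, Finset.sum_sub_distrib, s1, s2, s0] at h2
    intro j
    rw [h1]
    exact mul_left_cancel₀ (mul_ne_zero (by norm_num : (4 : ℂ) ≠ 0) hκ0) (by linear_combination -h2)
  have hf1 : IsCharacter G (θ * θ') := isCharacter_mul hθc hθc'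
  have hf2 : IsCharacter G (θ * θ) := isCharacter_mul hθc hθc
  obtain ⟨m1, hm1, hd1⟩ := exists_char_eq_sum_nat hf1
  obtain ⟨m2, hm2, hd2⟩ := exists_char_eq_sum_nat hf2
  set f1 := θ * θ' with hf1'
  set f2 := θ * θ with hf2'
  have v1 : ∀ j : (ZMod p)ˣ, f1 (x ^ (j : ZMod p).val) = -κ := fun j => by
    rw [← hB j, ← hsum]; rfl
  have v2 : ∀ j : (ZMod p)ˣ, (f2 - θ) (x ^ (j : ZMod p).val) = κ := fun j => by
    simp only [hf2', Pi.sub_apply, Pi.mul_apply]
    linear_combination -hB j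
  have u1 : ∀ k : ZMod p, ∑ χ, m1 χ * mn hζ x χ k = if k = 0 then 1 else κ + 1 := fun k => by
    have := mu_const hζ v1 k
    rw [mu_eq_sum hζ hs.pow_p hd1] at this
    simp only [hf1', Pi.mul_apply, hθ1, hθ1'] at this
    refine Nat.cast_injective (R := ℂ) (mul_left_cancel₀ (p_ne_zero (p := p)) (this.trans ?_))
    split_ifs <;> (rw [hpc]; push_cast; ring)
  have u2 : ∀ k : ZMod p, ∑ χ, m2 χ * mn hζ x χ k =
      mn hζ x (D.Y 1) k + if k = 0 then 2 * κ else κ := fun k => by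
    have := mu_const hζ v2 k
    rw [mu_sub, mu_eq_sum hζ hs.pow_p hd2, ← mn_cast hζ hs.pow_p, mul_sub, sub_eq_iff_eq_add] at this
    simp only [hf2', Pi.sub_apply, Pi.mul_apply, hθ1] at this
    refine Nat.cast_injective (R := ℂ) (mul_left_cancel₀ (p_ne_zero (p := p)) (this.trans ?_))
    split_ifs <;> (rw [hpc]; push_cast; ring)
  have a1 : m1 (irrOne G) = 0 := by
    have := hm1 (irrOne G)
    rw [irrOne_coe, hf1', show θ * θ' = fun g => θ g * conj (θ' g) from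
      funext fun g => by rw [hθ', hreal]; rfl, classInner_mul_conj_one,
      classInner_irr_of_ne (D.Y 1).2 (D.Y b).2 fun h0 => hb (Subtype.ext h0).symm] at this
    exact_mod_cast this.symm
  have a2 : m2 (irrOne G) = 1 := by
    have := hm2 (irrOne G)
    rw [irrOne_coe, hf2', show θ * θ = fun g => θ g * conj (θ g) from
      funext fun g => by rw [hθ, hreal]; rfl, classInner_mul_conj_one,
      classInner_irr_self (D.Y 1).2] at this
    exact_mod_cast this.symm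
  set Sp := Finset.univ.filter (fun χ => χ ∈ D.X ∧ dg χ = p + 1) with hSp
  set Sm := Finset.univ.filter (fun χ => χ ∈ D.X ∧ dg χ + 1 = p) with hSm
  have hb1 : ((1 : (ZMod p)ˣ) : ZMod p) ≠ 0 := Units.ne_zero _
  have hb2 : (b : ZMod p) ≠ 0 := Units.ne_zero _
  obtain ⟨χ0, c1, c2⟩ := exists_of_sum_eq_one ((u1 0).trans (if_pos rfl))
  have c3 : ∀ χ, χ ≠ χ0 → m1 χ ≠ 0 → χ ∈ Sm ∧ mn hζ x χ 0 = 0 ∧
      ∀ k : (ZMod p)ˣ, mn hζ x χ k = 1 := by
    intro χ h1 h2
    have h3 := (mul_eq_zero.1 (c2 χ h1)).resolve_left h2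
    rcases hcases χ with rfl | ⟨-, -, -, u, -, d1, -⟩ | ⟨d0, -, -, u, d1, d2, d3⟩ | ⟨a, rfl⟩ |
      ⟨-, -, u, -, d1⟩
    · omega
    · omega
    · rw [h3] at d2
      subst d2
      exact ⟨Finset.mem_filter.2 ⟨Finset.mem_univ _, d0, by omega⟩, h3, d3⟩
    · rw [hY0] at h3; omega
    · rw [d1] at h3; omega
  have c4 : ∀ k : ZMod p, mn hζ x χ0 k = 1 := by
    have e1 := Nat.eq_one_of_mul_eq_one_right c1
    have e2 := Nat.eq_one_of_mul_eq_one_left c1
    rcases hcases χ0 with rfl | ⟨-, -, -, u, -, d1, -⟩ | ⟨d0, d4, -, u, d1, d2, d3⟩ | ⟨a, rfl⟩ |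
      ⟨-, -, u, -, d1⟩
    · omega
    · omega
    · have := hX _ d0 d4
      rw [e2] at d2
      subst d2
      omega
    · have h1 := (u1 _).trans (if_neg hb1)
      have h2 := (u1 _).trans (if_neg hb2)
      rw [← Finset.add_sum_erase _ _ (Finset.mem_univ (D.Y a)), e1, hYk] at h1 h2
      have h3 : ∑ χ ∈ Finset.univ.erase (D.Y a), m1 χ * mn hζ x χ (1 : (ZMod p)ˣ) =
          ∑ χ ∈ Finset.univ.erase (D.Y a), m1 χ * mn hζ x χ b :=
        Finset.sum_congr rfl fun χ hχ => by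
          by_cases h0 : m1 χ = 0
          · rw [h0, zero_mul, zero_mul]
          rw [(c3 χ (Finset.mem_erase.1 hχ).1 h0).2.2, (c3 χ (Finset.mem_erase.1 hχ).1 h0).2.2]
      rcases hYa a with h4 | h4 <;> rw [h4] at h1 h2 h3
      · rw [if_pos rfl] at h1; rw [if_neg hb.symm] at h2; omega
      · rw [if_neg hb] at h1; rw [if_pos rfl] at h2; omega
    · intro k; rw [d1] at e2 ⊢; exact e2
  have w1 : ∀ χ, mn hζ x χ 0 ≤ mn hζ x χ (1 : (ZMod p)ˣ) + mn hζ x χ b +
      if χ = irrOne G then 1 else 0 := by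
    intro χ
    rcases hcases χ with rfl | ⟨-, -, -, u, -, d1, d2⟩ | ⟨-, -, -, u, -, d1, d2⟩ | ⟨a, rfl⟩ |
      ⟨-, -, u, -, d1⟩
    · simp [o0]
    · rw [d1, d2, d2]; omega
    · rw [d1, d2, d2]; omega
    · rw [hY0, hYk, hYk]
      rcases hYa a with h4 | h4 <;> rw [h4]
      · rw [if_neg hb.symm]; omega
      · rw [if_neg hb]; omega
    · rw [d1, d1, d1]; omega
  choose w hw using fun χ => Nat.exists_eq_add_of_le (w1 χ)
  have w2 : ∑ χ, m2 χ * w χ = 1 := by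
    have h1 := Finset.sum_congr rfl fun χ (_ : χ ∈ Finset.univ) => congrArg (m2 χ * ·) (hw χ)
    simp only [mul_add, Finset.sum_add_distrib, u2, mul_ite, mul_one, mul_zero, Finset.sum_ite_eq',
      Finset.mem_univ, if_true, a2, if_neg hb1, if_neg hb2, hY0, hYk, if_neg hb.symm] at h1
    omega
  obtain ⟨χ1, c5, c6⟩ := exists_of_sum_eq_one w2
  have c7 : ∑ χ, m1 χ * m2 χ ≤ 1 := by
    rw [← w2]
    refine Finset.sum_le_sum fun χ _ => ?_
    by_cases h0 : m1 χ = 0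
    · simp [h0]
    have h2 := hw χ
    by_cases h1 : χ = χ0
    · rw [h1, c4, c4, c4] at h2
      rw [h1, Nat.eq_one_of_mul_eq_one_right c1, one_mul]
      exact Nat.le_mul_of_pos_right _ (by omega)
    obtain ⟨-, h3, h4⟩ := c3 χ h1 h0
    rw [h3, h4, h4] at h2
    have h5 : m2 χ * w χ ≤ 1 := w2 ▸ Finset.single_le_sum (f := fun χ => m2 χ * w χ)
      (fun _ _ => Nat.zero_le _) (Finset.mem_univ χ)
    have h6 : m2 χ = 0 := by
      by_contra h6
      have := Nat.mul_le_mul (Nat.pos_of_ne_zero h6) (by omega : 2 ≤ w χ)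
      omega
    simp [h6]
  have k1 := isClassFunction_of_isCharacter hf1
  have k2 := isClassFunction_of_isCharacter hf2
  have hreg : ∀ g, ¬ p ∣ orderOf g → f1 g = f2 g := fun g hg => by
    simp only [hf1', hf2', Pi.mul_apply, hθ, hθ', Y_reg D b 1 hg]
  have v3 : ∀ j : (ZMod p)ˣ, f2 (x ^ (j : ZMod p).val) = θ (x ^ (j : ZMod p).val) + κ := fun j => by
    rw [← v2 j]; simp
  have hpe0 : (p * e : ℂ) ≠ 0 := mul_ne_zero p_ne_zero (Nat.cast_ne_zero.2 he0.ne')
  have i1 : ∑ χ, m1 χ * m1 χ = ∑ χ, m1 χ * m2 χ + κ := by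
    have h1 := inner_sub_inner D h k1 k1 k1 k2 fun g hg => by rw [hreg g hg]
    simp only [v1, v3, map_add, map_neg, map_natCast, hθ, hreal, ← he'] at h1
    rw [← hθ, inner_eq_sum hd1 hd1, inner_eq_sum hd1 hd2] at h1
    simp only [mul_add, Finset.sum_sub_distrib, Finset.sum_add_distrib, ← Finset.mul_sum, s1, s0] at h1
    refine Nat.cast_injective (R := ℂ) (mul_left_cancel₀ hpe0 ?_)
    rw [Nat.cast_add, mul_add, ← sub_eq_iff_eq_add', ← mul_sub, h1, hpc, hec]; ring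
  have i2 : ∑ χ, m2 χ * m2 χ = ∑ χ, m1 χ * m2 χ + (κ + 1) := by
    have h1 := inner_sub_inner D h k2 k2 k1 k2 fun g hg => by rw [hreg g hg]
    simp only [v1, v3, map_add, map_natCast, hθ, hreal, ← he'] at h1
    rw [← hθ, inner_eq_sum hd2 hd2, inner_eq_sum hd1 hd2] at h1
    simp only [sq] at s2
    simp only [mul_add, add_mul, Finset.sum_sub_distrib, Finset.sum_add_distrib, ← Finset.mul_sum,
      ← Finset.sum_mul, s1, s2, s0] at h1
    refine Nat.cast_injective (R := ℂ) (mul_left_cancel₀ hpe0 ?_)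
    rw [Nat.cast_add, mul_add, ← sub_eq_iff_eq_add', ← mul_sub, h1, hpc, hec]; push_cast; ring
  have b1 : κ + 1 ≤ (insert χ0 Sm).card := by
    have h1 := (u1 _).trans (if_neg hb1)
    rw [← h1]
    refine sum_le_card_of_le_one (c := fun _ => 0) _ (fun χ hχ => Or.inr ?_) (fun _ => Nat.zero_le _)
      (by rw [h1]; omega)
    by_cases h2 : χ = χ0
    · exact ⟨h2 ▸ c4 _, rfl, h2 ▸ Finset.mem_insert_self _ _⟩
    · exact ⟨(c3 χ h2 hχ).2.2 _, rfl, Finset.mem_insert_of_mem (c3 χ h2 hχ).1⟩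
  have b2 : κ + 1 ≤ (insert χ1 (insert (D.Y 1) Sp)).card := by
    have h1 := u2 b
    rw [if_neg hb2, hYk, if_neg hb.symm, add_comm] at h1
    rw [← h1]
    refine sum_le_card_of_le_one (c := fun χ => if χ = irrOne G then 1 else 0) _ (fun χ hχ => ?_)
      (fun χ => ?_) (by rw [h1, Finset.sum_ite_eq', if_pos (Finset.mem_univ _)]; omega)
    · have h2 := hw χ
      have h3 : w χ = 0 ∨ (w χ = 1 ∧ χ = χ1) := by
        by_cases h3 : χ = χ1
        · exact Or.inr ⟨h3 ▸ Nat.eq_one_of_mul_eq_one_left c5, h3⟩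
        · exact Or.inl ((mul_eq_zero.1 (c6 χ h3)).resolve_left hχ)
      rcases hcases χ with rfl | ⟨d0, d4, -, u, d3, d1, d2⟩ | ⟨-, -, -, u, -, d1, d2⟩ | ⟨a, rfl⟩ |
        ⟨-, -, u, -, d1⟩
      · exact Or.inl (ok _)
      · rw [d1, d2, d2, if_neg d4] at h2
        have := hX _ d0 d4
        have hu : u = 0 := by
          by_contra hu
          rw [(by omega : u = 1)] at d3
          omega
        refine Or.inr ⟨by rw [d2, hu], if_neg d4, Finset.mem_insert_of_mem (Finset.mem_insert_of_mem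
          (Finset.mem_filter.2 ⟨Finset.mem_univ _, d0, by rw [d3, hu]; ring⟩))⟩
      · rw [d1, d2, d2] at h2; omega
      · rcases hYa a with h4 | h4 <;> rw [h4, hYk]
        · exact Or.inr ⟨if_neg hb.symm, if_neg (Y_ne_one D 1),
            Finset.mem_insert_of_mem (Finset.mem_insert_self _ _)⟩
        · exact Or.inl (if_pos rfl)
      · rw [d1, d1, d1] at h2
        obtain ⟨h4, h5⟩ := h3.resolve_left (by omega)
        refine Or.inr ⟨by rw [d1]; omega, ?_, h5 ▸ Finset.mem_insert_self _ _⟩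
        split_ifs at h2 ⊢ <;> omega
    · split_ifs with h2
      · rw [h2, a2]
      · exact Nat.zero_le _
  have b3 := Finset.card_insert_le χ0 Sm
  have b4 := Finset.card_insert_le χ1 (insert (D.Y 1) Sp)
  have b5 := Finset.card_insert_le (D.Y 1) Sp
  refine ⟨?_, X_eq_of_card D hs (by omega) (S := Sp) (T := Sm)
    (fun χ hχ => (Finset.mem_filter.1 hχ).2) (fun χ hχ => (Finset.mem_filter.1 hχ).2) (by omega)⟩
  obtain ⟨χ, hχ⟩ := Finset.card_pos.1 (by omega : 0 < Sm.card)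
  exact ⟨χ, (Finset.mem_filter.1 hχ).2⟩

end CfsgLib.Tuan
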