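import Mathlib
import Cfsg.Agent.Lib.Tuan.Neg2
import Cfsg.Agent.S0910

/-!
The theorem of Brauer and Tuan on simple groups of order `p q ^ b g` with `g < p - 1`.
-/

set_option autoImplicit false
set_option linter.unusedSectionVars false

namespace CfsgLib.Tuan

open Cfsg CfsgLib.Char CfsgLib.Block CfsgLib.DefectOne CfsgLib.DefectOne.B43 Subgroup

theorem le_of_dvd_two_pow_sub {m b : ℕ} (h : (2 ^ m - 1 : ℤ) ∣ 2 ^ b - 1) (hb : b < 2 * m) : b ≤ m := by
  by_contra! h1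
  obtain ⟨r, rfl⟩ := Nat.exists_eq_add_of_lt h1
  have h2 : (2 ^ m - 1 : ℤ) ∣ 2 ^ (r + 1) - 1 := by
    have := dvd_sub h (dvd_mul_right (2 ^ m - 1 : ℤ) (2 ^ (r + 1)))
    exact (by ring : (2 : ℤ) ^ (m + r + 1) - 1 - (2 ^ m - 1) * 2 ^ (r + 1) = 2 ^ (r + 1) - 1) ▸ this
  have h3 : (2 : ℤ) ^ (r + 1) < 2 ^ m := pow_lt_pow_right₀ (by norm_num) (by omega)
  have h4 : (1 : ℤ) < 2 ^ (r + 1) := one_lt_pow₀ (by norm_num) (by omega)
  have := Int.le_of_dvd (by omega) h2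
  omega

theorem le_of_dvd_two_pow_add {m b : ℕ} (h : (2 ^ m + 1 : ℤ) ∣ 2 ^ b + 1) (hb : b < 3 * m) : b ≤ m := by
  by_contra! h1
  obtain ⟨r, rfl⟩ := Nat.exists_eq_add_of_lt h1
  have h2 : (2 ^ m + 1 : ℤ) ∣ 2 ^ (r + 1) - 1 := by
    have := dvd_sub (dvd_mul_right (2 ^ m + 1 : ℤ) (2 ^ (r + 1))) h
    exact (by ring : ((2 : ℤ) ^ m + 1) * 2 ^ (r + 1) - (2 ^ (m + r + 1) + 1) = 2 ^ (r + 1) - 1) ▸ this
  have h4 : (1 : ℤ) < 2 ^ (r + 1) := one_lt_pow₀ (by norm_num) (by omega)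
  have h5 := Int.le_of_dvd (by omega) h2
  have h6 : m < r + 1 := by
    by_contra! h6
    have : (2 : ℤ) ^ (r + 1) ≤ 2 ^ m := pow_le_pow_right₀ (by norm_num) h6
    omega
  obtain ⟨s, hs⟩ := Nat.exists_eq_add_of_le h6.le
  have h7 : (2 ^ m + 1 : ℤ) ∣ 2 ^ s + 1 := by
    have := dvd_sub (dvd_mul_right (2 ^ m + 1 : ℤ) (2 ^ s)) h2
    rw [hs] at this
    exact (by ring : ((2 : ℤ) ^ m + 1) * 2 ^ s - (2 ^ (m + s) - 1) = 2 ^ s + 1) ▸ this
  have h3 : (2 : ℤ) ^ s < 2 ^ m := pow_lt_pow_right₀ (by norm_num) (by omega)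
  have := Int.le_of_dvd (by positivity) h7
  omega

variable {G : Type*} [Group G] [Finite G] [IsSimpleGroup G] {p : ℕ} [hp : Fact p.Prime] {x : G} {ζ : ℂ}

/-- the congruence of Brauer and Tuan for the principal `q`-block when the non-exceptional characters whose
degree is not a power of `q` have the same degree and sign -/
theorem bt_principal (hna : ∃ a b : G, a * b ≠ b * a) (hζ : IsPrimitiveRoot ζ p) (D : PrinData p x ζ)
    (h : SC p x) {q : ℕ} (hq : q.Prime) (hpq : p ≠ q) {m : ℕ} {c : ℤ}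
    (hX : ∀ χ ∈ D.X, χ ≠ irrOne G → dg χ = q ^ m ∨ D.δ χ * dg χ = c) (h1 : ∃ χ ∈ D.X, χ ≠ irrOne G ∧ dg χ = q ^ m) :
    ∃ a s : ℕ, a + 2 ≤ ee x ∧ s * ee x ≤ p - 1 ∧ (q : ℤ) ^ (Nat.card G).factorization q ∣
      (p - 1) * (1 + a * c) - D.ε * ee x * z0 D * s := by
  classical
  have := Fact.mk hq
  have hs := h.syl
  obtain ⟨M, hM⟩ := exists_isPModular' hq
  have hbt := bt D hs hζ hq (by
    rw [h.card_CC, Nat.prime_dvd_prime_iff_eq hq hp.out]; exact hpq.symm) hM (isPBlock_principalBlock (G := G))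
  set S := D.X.filter (· ∈ principalBlock M G) with hS
  have hS1 : irrOne G ∈ S := Finset.mem_filter.2 ⟨D.one_mem, irrOne_mem_principalBlock hM⟩
  have hS0 : ∀ χ ∈ S.erase (irrOne G), dg χ ≠ q ^ m := fun χ hχ h2 =>
    ne_one_iff.1 (Finset.mem_erase.1 hχ).1 (Cfsg.Agent.S0910.result q M hM hna χ
      (Finset.mem_filter.1 (Finset.mem_erase.1 hχ).2).2 m (by rw [← dg_cast, h2, Nat.cast_pow]))
  have hS2 : ∀ χ ∈ S.erase (irrOne G), D.δ χ * dg χ = c := fun χ hχ =>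
    (hX χ (Finset.mem_filter.1 (Finset.mem_erase.1 hχ).2).1 (Finset.mem_erase.1 hχ).1).resolve_left
      (hS0 χ hχ)
  rw [← Finset.add_sum_erase _ _ hS1, Finset.sum_congr rfl hS2, D.δ_one, dg_one, Finset.sum_const,
    nsmul_eq_mul, Nat.cast_one, one_mul] at hbt
  refine ⟨_, _, ?_, ?_, hbt⟩
  · obtain ⟨χ, h2, h3, h4⟩ := h1
    have := Finset.card_lt_card (Finset.ssubset_iff_subset_ne.2
      ⟨Finset.erase_subset_erase (irrOne G) (Finset.filter_subset (· ∈ principalBlock M G) D.X),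
        fun h5 => hS0 χ (h5 ▸ Finset.mem_erase.2 ⟨h3, h2⟩) h4⟩)
    have := card_erase D hs
    rw [hS]
    omega
  · rw [← card_Ys_mul D, card_U D hs]
    exact Nat.mul_le_mul_right _ (Finset.card_filter_le _ _)

theorem tuan_pos (hna : ∃ a b : G, a * b ≠ b * a) (hζ : IsPrimitiveRoot ζ p) (D : PrinData p x ζ)
    (h : SC p x) {q b g : ℕ} (hq : q.Prime) (hpq : p ≠ q) (hG : Nat.card G = p * q ^ b * g)
    (hb : (Nat.card G).factorization q = b) (hg : g < p - 1) (hg0 : 0 < g) (hzg : z0 D ∣ g)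
    (hε : D.ε = 1) (hz : z0 D = ee x) :
    Nat.card G < p ^ 3 ∧ ∃ m, p = 2 ^ m - 1 := by
  have hs := h.syl
  have h1 := Nat.le_of_dvd hg0 hzg
  obtain ⟨hpe, hodd, ⟨χ, hχ, hχ1⟩, -, hX⟩ := pos_case hζ D hna h hε hz (by omega)
  have he1 := ee_ne_one_of_perfect hs (commutator_eq_top hna)
  have he0 := ee_pos x
  have hge : g = ee x := by
    obtain ⟨c, hc⟩ := hzg
    have : c < 2 := by
      by_contra! h2
      have := Nat.mul_le_mul_left (z0 D) h2
      omega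
    interval_cases c <;> omega
  have hn : Nat.card (Sylow p G) = q ^ b := by
    have := h.card_eq
    rw [hG, hge, mul_right_comm] at this
    exact (Nat.eq_of_mul_eq_mul_left (Nat.mul_pos hp.out.pos he0) this).symm
  have h2 : p + 1 ∣ q ^ b := by
    have := deg_X_dvd D hs hχ
    rw [hn, show charDegree _ = p + 1 from hχ1] at this
    refine Nat.Coprime.dvd_of_dvd_mul_left ?_ this
    rw [hpe, (by ring : 2 * ee x + 1 + 1 = 2 + 2 * ee x), Nat.coprime_add_mul_right_left]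
    exact hodd.coprime_two_left
  obtain ⟨m, -, hm⟩ := (Nat.dvd_prime_pow hq).1 h2
  have hq2 : q = 2 := ((Nat.prime_dvd_prime_iff_eq Nat.prime_two hq).1
    (Nat.prime_two.dvd_of_dvd_pow (hm ▸ (⟨ee x + 1, by omega⟩ : 2 ∣ p + 1)))).symm
  subst hq2
  refine ⟨?_, m, by omega⟩
  obtain ⟨a, s, ha, hs', hbt⟩ := bt_principal hna hζ D h hq hpq (m := m) (c := -(2 * ee x))
    (fun χ h1 h2 => (hX χ h1 h2).imp (fun h3 => h3.1.trans hm) fun h3 => by rw [h3.2]; omega)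
    ⟨χ, hχ, by rintro rfl; rw [dg_one] at hχ1; omega, hχ1.trans hm⟩
  rw [hb, hε, hz] at hbt
  set e := ee x
  have h3 : (2 : ℤ) ^ b ∣ 4 * e * a + e * s - 2 := by
    refine IsCoprime.dvd_of_dvd_mul_left (y := -(e : ℤ)) (IsCoprime.pow_left (IsCoprime.neg_right ?_)) ?_
    · exact_mod_cast Nat.isCoprime_iff_coprime.2 hodd.coprime_two_left
    · rw [hpe] at hbt
      refine dvd_trans hbt (dvd_of_eq ?_)
      push_cast; ring
  have h4 : s ≤ 2 := Nat.le_of_mul_le_mul_right (by omega : s * e ≤ 2 * e) he0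
  have hm' : (2 : ℤ) ^ m = 2 * e + 2 := by exact_mod_cast (by omega : 2 ^ m = 2 * e + 2)
  have he3 : (3 : ℤ) ≤ e := by obtain ⟨k, hk⟩ := hodd; omega
  have h5 : (2 : ℤ) ^ b < 2 ^ (2 * m) := by
    rw [mul_comm, pow_mul, hm']
    rcases Nat.eq_zero_or_pos (4 * a + s) with h0 | h0
    · rw [(by omega : a = 0), (by omega : s = 0)] at h3
      have := Int.le_of_dvd (by norm_num : (0 : ℤ) < 2) (by simpa using h3)
      nlinarith
    · have h6 : (1 : ℤ) ≤ 4 * a + s := by exact_mod_cast h0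
      have := Int.le_of_dvd (by nlinarith) h3
      have h7 : (a : ℤ) + 2 ≤ e := by exact_mod_cast ha
      have h8 : (s : ℤ) ≤ 2 := by exact_mod_cast h4
      nlinarith
  have h6 := le_of_dvd_two_pow_sub (m := m) (b := b) (by
    have := (CfsgLib.PSL2Rec.card_sylow_mod (G := G) (p := p))
    rw [hn, ← Nat.mod_eq_of_lt hp.out.one_lt] at this
    have := (Nat.modEq_iff_dvd.1 (Nat.ModEq.symm this))
    rwa [(by omega : (p : ℤ) = 2 ^ m - 1), Nat.cast_pow, Nat.cast_one] at this)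
    ((pow_lt_pow_iff_right₀ (by norm_num)).1 h5)
  have h7 : 2 ^ b ≤ p + 1 := hm ▸ Nat.pow_le_pow_right (by norm_num) h6
  rw [hG, hge, pow_succ', mul_assoc]
  refine Nat.mul_lt_mul_of_pos_left ?_ hp.out.pos
  have := Nat.mul_le_mul_right e h7
  rw [hpe] at this ⊢
  nlinarith

theorem tuan_neg (hna : ∃ a b : G, a * b ≠ b * a) (hζ : IsPrimitiveRoot ζ p) (D : PrinData p x ζ)
    (h : SC p x) {q b g : ℕ} (hq : q.Prime) (hpq : p ≠ q) (hG : Nat.card G = p * q ^ b * g)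
    (hb : (Nat.card G).factorization q = b) (hg : g < p - 1) (hg0 : 0 < g) (hzg : z0 D ∣ g)
    (hε : D.ε = -1) (hz : z0 D + ee x = p) (hX : ∀ χ ∈ D.X, χ ≠ irrOne G → q ∣ dg χ) :
    Nat.card G < p ^ 3 ∧ ∃ m, p = 2 ^ m + 1 := by
  classical
  have hs := h.syl
  have he1 := ee_ne_one_of_perfect hs (commutator_eq_top hna)
  have he0 := ee_pos x
  have hz1 := one_lt_dg hna (Y_ne_one D 1)
  rw [show dg (D.Y 1) = z0 D from deg_Y D 1] at hz1
  have he : ee x ≠ p - 1 := by omega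
  obtain ⟨t, ht⟩ := ee_dvd hs
  have ht2 : 2 ≤ t := by
    by_contra! h2
    interval_cases t <;> omega
  have he2 := Nat.mul_le_mul_left (ee x) ht2
  have hgz : g = z0 D := by
    obtain ⟨c, hc⟩ := hzg
    have : c < 2 := by
      by_contra! h2
      have := Nat.mul_le_mul_left (z0 D) h2
      omega
    interval_cases c <;> omega
  have hn : ee x * Nat.card (Sylow p G) = q ^ b * z0 D := by
    have := h.card_eq
    rw [hG, hgz, mul_assoc, mul_assoc] at this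
    exact (Nat.eq_of_mul_eq_mul_left hp.out.pos this).symm
  have hcop : (ee x).Coprime (z0 D) := by
    rw [← Nat.coprime_add_self_right, hz]
    exact (Nat.coprime_of_lt_prime he0.ne' (by omega) hp.out).symm
  obtain ⟨c, -, hc⟩ := (Nat.dvd_prime_pow hq).1 (hcop.dvd_of_dvd_mul_right (hn ▸ dvd_mul_right _ _))
  have hc0 : c ≠ 0 := by rintro rfl; exact he1 hc
  have hdeg := deg_eq' D
  have hq2 : q = 2 := by
    have h1 : (q : ℤ) ∣ ∑ χ ∈ D.X.erase (irrOne G), D.δ χ * dg χ := Finset.dvd_sum fun χ hχ =>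
      (Int.natCast_dvd_natCast.2 (hX χ (Finset.mem_erase.1 hχ).2 (Finset.mem_erase.1 hχ).1)).mul_left _
    have h2 : (q : ℤ) ∣ ee x := Int.natCast_dvd_natCast.2 (hc ▸ dvd_pow_self q hc0)
    have h3 : (q : ℤ) ∣ 2 := by
      have := dvd_sub (dvd_sub h2 (h2.mul_right t)) h1
      rw [hε] at hdeg
      have h4 : (ee x * t : ℤ) = p - 1 := by have := hp.out.pos; omega
      rwa [show (ee x : ℤ) - ee x * t - ∑ χ ∈ D.X.erase (irrOne G), D.δ χ * dg χ = 2 by omega] at this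
    exact (Nat.prime_dvd_prime_iff_eq hq Nat.prime_two).1 (Int.natCast_dvd_natCast.1 h3)
  subst hq2
  have key : (∃ χ ∈ D.X, dg χ + 1 = p) ∧ ∀ χ ∈ D.X, χ ≠ irrOne G →
      (dg χ = p + 1 ∧ D.δ χ = 1) ∨ (dg χ + 1 = p ∧ D.δ χ = -1) := by
    rcases Nat.lt_or_ge c 2 with h2 | h2
    · obtain rfl : c = 1 := by omega
      obtain ⟨χ, hχ⟩ := Finset.card_eq_one.1 (by have := card_erase D hs; omega :
        (D.X.erase (irrOne G)).card = 1)
      have h3 := Finset.mem_erase.1 (hχ ▸ Finset.mem_singleton_self χ)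
      rw [hχ, Finset.sum_singleton, hε] at hdeg
      have h4 : dg χ + 1 = p ∧ D.δ χ = -1 := by
        rcases D.δ_sign χ h3.2 with h4 | h4 <;> rw [h4] at hdeg <;> omega
      refine ⟨⟨χ, h3.2, h4.1⟩, fun ψ h5 h6 => Or.inr ?_⟩
      have h7 := Finset.mem_erase.2 ⟨h6, h5⟩
      rw [hχ, Finset.mem_singleton] at h7
      rwa [h7]
    · obtain ⟨c, rfl⟩ := Nat.exists_eq_add_of_le' h2
      exact neg_case hζ D hna h hε hz (neg_two hζ D hna h hε hz hc he)
        (hc ▸ (Nat.even_pow.2 ⟨even_two, hc0⟩)) hX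
  obtain ⟨⟨χ, hχ, hχ1⟩, hX'⟩ := key
  have h2 : dg χ ∣ 2 ^ b := by
    have := deg_X_dvd D hs hχ
    rw [hn] at this
    refine Nat.Coprime.dvd_of_dvd_mul_right ?_ this
    rcases Nat.lt_or_ge c 2 with h2 | h2
    · obtain rfl : c = 1 := by omega
      rw [(by omega : dg χ = z0 D + 1)]
      simp
    · obtain ⟨c, rfl⟩ := Nat.exists_eq_add_of_le' h2
      have := neg_two hζ D hna h hε hz hc he
      rw [(by omega : dg χ = 2 * ee x)]
      refine Nat.Coprime.mul_left ?_ hcop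
      rw [Nat.coprime_two_left, (by omega : z0 D = ee x + 1), hc]
      exact (Nat.even_pow.2 ⟨even_two, hc0⟩).add_one
  obtain ⟨m, -, hm⟩ := (Nat.dvd_prime_pow hq).1 h2
  refine ⟨?_, m, by omega⟩
  obtain ⟨a, s, ha, hs', hbt⟩ := bt_principal hna hζ D h hq hpq (m := m) (c := p + 1)
    (fun ψ h1 h2 => (hX' ψ h1 h2).symm.imp (fun h3 => by omega) fun h3 => by rw [h3.2, h3.1]; simp)
    ⟨χ, hχ, by rintro rfl; rw [dg_one] at hχ1; omega, hm⟩
  rw [hb, hε] at hbt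
  set e := ee x
  set z := z0 D
  obtain ⟨k, hk⟩ : ∃ k, p = k + 1 := ⟨p - 1, by omega⟩
  have hm' : 2 ^ m = k := by omega
  have h3 : 2 ^ b ∣ k * (1 + a * (k + 2)) + z * (s * e) := by
    refine Int.natCast_dvd_natCast.1 ?_
    convert hbt using 1
    · simp
    · rw [hk]; push_cast; ring
  have h5 : 2 ^ b < 2 ^ (3 * m) := by
    rw [mul_comm, pow_mul, hm']
    have h6 := Nat.le_of_dvd (by have : 0 < k := by omega
                                 positivity) h3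
    have h7 : z * (s * e) ≤ z * k := Nat.mul_le_mul_left _ (by omega)
    have h8 : 1 + a * (k + 2) + z < k ^ 2 := by
      have : (a + 2) * 2 ≤ k := by omega
      have : z + (a + 2) ≤ k + 1 := by omega
      nlinarith
    have := Nat.mul_lt_mul_of_pos_left h8 (by omega : 0 < k)
    nlinarith
  have h6 := le_of_dvd_two_pow_add (m := m) (b := b) (by
    have h7 := (CfsgLib.PSL2Rec.card_sylow_mod (G := G) (p := p))
    rw [← Nat.mod_eq_of_lt hp.out.one_lt] at h7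
    obtain ⟨u, hu⟩ := (Nat.modEq_iff_dvd.1 (Nat.ModEq.symm h7))
    have h8 : (e : ℤ) * Nat.card (Sylow p G) = 2 ^ b * z := by exact_mod_cast hn
    have h9 : (z : ℤ) = p - e := by omega
    rw [(by rw [hk, ← hm']; simp : (2 ^ m + 1 : ℤ) = p)]
    refine IsCoprime.dvd_of_dvd_mul_left (y := (e : ℤ)) (Nat.isCoprime_iff_coprime.2
      (Nat.coprime_of_lt_prime he0.ne' (by omega) hp.out)) ⟨2 ^ b - e * u, ?_⟩
    rw [h9] at h8
    push_cast at hu
    linear_combination h8 - e * hu)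
    ((Nat.pow_lt_pow_iff_right (by norm_num)).1 h5)
  have h7 : 2 ^ b ≤ k := hm' ▸ Nat.pow_le_pow_right (by norm_num) h6
  rw [hG, pow_succ', mul_assoc]
  refine Nat.mul_lt_mul_of_pos_left ?_ hp.out.pos
  have := Nat.mul_le_mul h7 (by omega : g ≤ k)
  rw [hk]
  nlinarith

theorem tuan (hna : ∃ a b : G, a * b ≠ b * a) {q b g : ℕ} (hq : q.Prime) (hpq : p ≠ q)
    (hG : Nat.card G = p * q ^ b * g) (hg : g < p - 1) :
    Nat.card G < p ^ 3 ∧ ∃ m, p = 2 ^ m + 1 ∨ p = 2 ^ m - 1 := by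
  classical
  have hg0 : g ≠ 0 := by rintro rfl; exact Nat.card_pos.ne' hG
  obtain ⟨k, g, hqg, rfl⟩ := Nat.exists_eq_pow_mul_and_not_dvd hg0 q hq.ne_one
  replace hg0 := Nat.pos_of_ne_zero (right_ne_zero_of_mul hg0)
  replace hg := (Nat.le_mul_of_pos_left g (pow_pos hq.pos k)).trans_lt hg
  rw [← mul_assoc, mul_assoc p, ← pow_add] at hG
  generalize b + k = b at hG
  have hpq' := (Nat.coprime_primes hp.out hq).2 hpq
  have hb : (Nat.card G).factorization q = b := by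
    rw [hG, mul_right_comm, Nat.factorization_mul (mul_pos hp.out.pos hg0).ne' (pow_pos hq.pos b).ne',
      Finsupp.add_apply, hq.factorization_pow, Finsupp.single_eq_same, Nat.factorization_eq_zero_of_not_dvd,
      zero_add]
    rw [hq.dvd_mul, Nat.prime_dvd_prime_iff_eq hq hp.out]
    exact not_or.2 ⟨hpq.symm, hqg⟩
  obtain ⟨x, hs⟩ := exists_syl (G := G) (p := p) (by rw [hG, mul_assoc]; exact dvd_mul_right _ _) (by
    rw [hG, mul_assoc, sq, Nat.mul_dvd_mul_iff_left hp.out.pos]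
    intro h
    have := Nat.le_of_dvd hg0 ((hpq'.pow_right b).dvd_of_dvd_mul_left h)
    omega)
  obtain ⟨ζ, hζ, ⟨D⟩⟩ := exists_data hs
  have hdv : ∀ χ : IrrCharacter G, ¬ p ∣ dg χ → ¬ q ∣ dg χ → dg χ ∣ g := fun χ h1 h2 => by
    have := dg_dvd χ
    rw [hG] at this
    exact (((hp.out.coprime_iff_not_dvd.2 h1).mul_left
      ((hq.coprime_iff_not_dvd.2 h2).pow_left b)).symm).dvd_of_dvd_mul_left this
  have hX : ∀ χ ∈ D.X, χ ≠ irrOne G → q ∣ dg χ := fun χ h1 h2 => by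
    by_contra h3
    have h4 := (D.X_deg χ h1).dvd
    have h5 := one_lt_dg hna h2
    change (p : ℤ) ∣ D.δ χ - dg χ at h4
    have h6 : ¬ p ∣ dg χ := fun h6 => by
      have h7 : (p : ℤ) ∣ D.δ χ := by simpa using dvd_add h4 (Int.natCast_dvd_natCast.2 h6)
      have := hp.out.one_lt
      rcases D.δ_sign χ h1 with h8 | h8 <;> rw [h8] at h7
      · have := Int.le_of_dvd one_pos h7; omega
      · have := Int.le_of_dvd one_pos (dvd_neg.1 h7); omega
    have h7 := Nat.le_of_dvd hg0 (hdv χ h6 h3)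
    rw [← dvd_neg] at h4
    rcases D.δ_sign χ h1 with h8 | h8 <;> rw [h8] at h4 <;>
    · have := Int.le_of_dvd (by omega) h4; omega
  have he0 := ee_pos x
  have he := Nat.le_of_dvd (by omega) (ee_dvd hs)
  have hY := (D.Y_deg 1).dvd
  rw [card_U D hs, deg_Y] at hY
  have hzg : z0 D ∣ g := by
    rw [← deg_Y D 1]
    refine hdv _ (fun h1 => ?_) fun h1 => ?_ <;> rw [show dg (D.Y 1) = z0 D from deg_Y D 1] at h1
    · have h2 : (p : ℤ) ∣ D.ε * ee x := by simpa using dvd_add hY (Int.natCast_dvd_natCast.2 h1)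
      have h3 : (p : ℤ) ∣ ee x := by rcases D.ε_sign with h | h <;> simpa [h] using h2
      have := Int.le_of_dvd (by omega) h3
      omega
    · have h2 : (q : ℤ) ∣ ∑ χ ∈ D.X.erase (irrOne G), D.δ χ * dg χ := Finset.dvd_sum fun χ hχ =>
        (Int.natCast_dvd_natCast.2 (hX χ (Finset.mem_erase.1 hχ).2 (Finset.mem_erase.1 hχ).1)).mul_left _
      have h3 := dvd_sub ((Int.natCast_dvd_natCast.2 h1).mul_left D.ε) h2
      rw [deg_eq' D, add_sub_cancel_right] at h3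
      exact hq.one_lt.ne' (Nat.dvd_one.1 (by exact_mod_cast h3))
  have hz := Nat.le_of_dvd hg0 hzg
  have hz0 := z0_pos D
  rcases D.ε_sign with hε | hε <;> rw [hε] at hY
  · have h1 : z0 D = ee x := by
      have := Int.eq_zero_of_abs_lt_dvd hY (abs_lt.2 ⟨by omega, by omega⟩)
      omega
    have h := sc_of_forall hs fun y hy hy' => eq_one_of_eq (Y_ne_one D 1)
      (Y_ker_pos D hs hζ (by rw [hε, h1, one_mul]) 1 hy hy')
    exact (tuan_pos hna hζ D h hq hpq hG hb hg hg0 hzg hε h1).imp_right fun ⟨m, hm⟩ => ⟨m, Or.inr hm⟩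
  · have h1 : z0 D + ee x = p := by
      have := Int.eq_zero_of_abs_lt_dvd (dvd_add hY dvd_rfl) (abs_lt.2 ⟨by omega, by omega⟩)
      omega
    have h := sc_of_forall hs fun y hy hy' => eq_one_of_eq (Y_ne_one D 1)
      (Y_ker_neg hζ D hs (by rw [hε]; omega) 1 hy hy')
    exact (tuan_neg hna hζ D h hq hpq hG hb hg hg0 hzg hε h1 hX).imp_right fun ⟨m, hm⟩ => ⟨m, Or.inl hm⟩

end CfsgLib.Tuan
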